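import Groth.Agent.Lib.Helper15.AlgSpDecent2
import Groth.Agent.Lib.Helper15.AlgSpFinite2
import Groth.Agent.Lib.Helper15.AlgSpAff
import Groth.Agent.Lib.Helper15.QfSplit
import Groth.Prelude.Def_Cyc

set_option autoImplicit false
set_option linter.style.haveILetI false
universe u
open CategoryTheory CategoryTheory.Limits AlgebraicGeometry MorphismProperty
open AlgSp Groth.Agent.Helper15

namespace Groth.Agent.Helper19.DimFunSp

/-- specializations lift along closed maps -/
theorem exists_specializes_of_isClosedMap {A B : Type*} [TopologicalSpace A] [TopologicalSpace B]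
    (φ : A → B) (hφ : IsClosedMap φ) {a b : B} (h : a ⤳ b) (a' : A) (ha' : φ a' = a) :
    ∃ b' : A, a' ⤳ b' ∧ φ b' = b := by
  have hb : b ∈ closure ({a} : Set B) := specializes_iff_mem_closure.1 h
  have hsub : closure ({a} : Set B) ⊆ φ '' closure ({a'} : Set A) := by
    refine closure_minimal ?_ (hφ _ isClosed_closure)
    rw [Set.singleton_subset_iff]
    exact ⟨a', subset_closure rfl, ha'⟩
  obtain ⟨b', hb', hbb'⟩ := hsub hb
  exact ⟨b', specializes_iff_mem_closure.2 hb', hbb'⟩

variable {S : Scheme.{u}}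

/-- a dimension function on an etale surjective chart of a decent space descends to the space -/
theorem isDimFun_of_chart {X : Sp S} (hX : IsDecent X) {U : Over S} (a : (yon S).obj U ⟶ X)
    (ha : RepWith @Etale a) (hs : RepWith @Surjective a) (δX : Points X → ℤ)
    (h : Cyc.IsDimFun U.left (δX ∘ Points.ofPt a)) :
    ∀ x y : Points X, x ⤳ y → x ≠ y →
      δX y < δX x ∧ ((∀ z : Points X, x ⤳ z → z ⤳ y → z = x ∨ z = y) → δX x = δX y + 1) := by
  intro x y hxy hne
  obtain ⟨v, rfl⟩ := surjective_ofPt a hs y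
  obtain ⟨w, hwv, rfl⟩ := exists_specializes_lift_of_isDecent hX a ha v x hxy
  have hne' : w ≠ v := fun e => hne (by rw [e])
  obtain ⟨h1, h2⟩ := h w v hwv hne'
  refine ⟨h1, fun himm => h2 fun z hwz hzv => ?_⟩
  have hc := Points.continuous_ofPt a
  rcases himm (Points.ofPt a z) (hwz.map hc) (hzv.map hc) with e | e
  · exact Or.inl (eq_of_specializes_of_ofPt_eq_of_isDecent hX a ha z w e hwz)
  · exact Or.inr (eq_of_specializes_of_ofPt_eq_of_isDecent hX a ha v z e.symm hzv).symm

/-- no nontrivial specializations in the fibres of a finite morphism of decent spaces -/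
theorem eq_of_specializes_of_finite {X Y : Sp S} (hXa : IsAlgSpace X) (hX : IsDecent X)
    (hY : IsDecent Y) (f : Y ⟶ X) (hf : IsFiniteMor f) {c b : Points Y} (h : c ⤳ b)
    (he : Points.map f c = Points.map f b) : c = b := by
  obtain ⟨V, a, v, hV, hae, hav⟩ :=
    Groth.Agent.Helper15.Norm.exists_affine_etale_chart_at hXa (Points.map f b)
  obtain ⟨W, i, fst, sq, -, hfin⟩ := hf hV a
  haveI : IsFinite i.left := hfin
  have hfst : RepWith @Etale fst := (RepWith @Etale).of_isPullback sq.flip hae
  obtain ⟨p, hp1, hp2⟩ := exists_point_of_isPullback sq b (Points.ofScheme V v) (by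
    rw [← Points.ofPt_eq_map_ofScheme, hav])
  obtain ⟨b'', rfl⟩ := (Points.schemeEquiv W).surjective p
  change Points.map _ (Points.ofScheme W b'') = _ at hp1
  change Points.map _ (Points.ofScheme W b'') = _ at hp2
  rw [← Points.ofPt_eq_map_ofScheme] at hp1 hp2
  rw [Groth.Agent.Helper15.ofPt_yon_map] at hp2
  have hib : i.left b'' = v := (Points.schemeEquiv V).injective hp2
  subst hp1
  obtain ⟨w, hw, rfl⟩ := exists_specializes_lift_of_isDecent hY fst hfst b'' c h
  have key : ∀ t : W.left, Points.ofPt a (i.left t) = Points.map f (Points.ofPt fst t) := by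
    intro t
    rw [Points.map_ofPt, sq.w, ofPt_comp_yon_map]
  have hiw : i.left b'' = i.left w :=
    eq_of_specializes_of_ofPt_eq_of_isDecent hX a hae (i.left b'') (i.left w)
      (by rw [key, key, he]) (hw.map i.left.continuous)
  rw [eq_of_specializes_of_map_eq i.left hw hiw.symm]

/-- a finite morphism is closed on points -/
theorem isClosedMor_of_isFiniteMor {X Y : Sp S} (hXa : IsAlgSpace X) (f : Y ⟶ X)
    (hf : IsFiniteMor f) : IsClosedMor f :=
  isClosedMor_of_affRep (Q := @IsFinite)
    (fun φ hφ => by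
      haveI : IsFinite φ := hφ
      exact φ.isClosedMap) hXa f ((isFiniteMor_iff_affRep f).1 hf)

/-- a dimension function descends along a finite surjective morphism of decent spaces -/
theorem isDimFun_of_finite_surjective {X Y : Sp S} (hXa : IsAlgSpace X) (hX : IsDecent X)
    (hY : IsDecent Y) (f : Y ⟶ X) (hf : IsFiniteMor f) (hs : IsSurjectiveMor f)
    (δ : Points X → ℤ)
    (hδ : ∀ a b : Points Y, a ⤳ b → a ≠ b → (δ ∘ Points.map f) b < (δ ∘ Points.map f) a ∧
      ((∀ c : Points Y, a ⤳ c → c ⤳ b → c = a ∨ c = b) →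
        (δ ∘ Points.map f) a = (δ ∘ Points.map f) b + 1)) :
    ∀ a b : Points X, a ⤳ b → a ≠ b →
      δ b < δ a ∧ ((∀ c : Points X, a ⤳ c → c ⤳ b → c = a ∨ c = b) → δ a = δ b + 1) := by
  intro a b hab hne
  obtain ⟨a', rfl⟩ := hs a
  obtain ⟨b', hab', rfl⟩ := exists_specializes_of_isClosedMap _
    (isClosedMor_of_isFiniteMor hXa f hf) hab a' rfl
  have hne' : a' ≠ b' := fun e => hne (by rw [e])
  obtain ⟨h1, h2⟩ := hδ a' b' hab' hne'
  refine ⟨h1, fun himm => h2 fun c' hac hcb => ?_⟩
  have hc := Points.continuous_map f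
  rcases himm (Points.map f c') (hac.map hc) (hcb.map hc) with e | e
  · exact Or.inl (eq_of_specializes_of_finite hXa hX hY f hf hac e.symm).symm
  · exact Or.inr (eq_of_specializes_of_finite hXa hX hY f hf hcb e)

end Groth.Agent.Helper19.DimFunSp
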